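import Mathlib

/-!
# S3691, F-D+2, common part 11.3: linear algebra (helper454)

* `no_group` : step (iv): there is no group of isometries acting trivially on `W` and on `W^⊥ / W`, `W^⊥ = ⟨e, f⟩ + W`, such that
  `g ↦ (g e - e, g f - f)` is a bijection onto `W × W`.
-/

set_option autoImplicit false

namespace Cfsg.Agent.H454.Rg

variable {F V : Type*} [Field F] [AddCommGroup V] [Module F V]

/-- the action of `g` on `z` -/
theorem apply_eq {B : V →ₗ[F] V →ₗ[F] F} (hs : ∀ x y, B x y = B y x) {W : Submodule F V} {e f : V}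
    (hee : B e e = 0) (hff : B f f = 0) (hef : B e f = 1) (hWe : ∀ w ∈ W, B w e = 0) (hWf : ∀ w ∈ W, B w f = 0)
    (hWW : ∀ w ∈ W, ∀ w' ∈ W, B w w' = 0)
    (hperp : ∀ z, (∀ w ∈ W, B z w = 0) → ∃ (a b : F), ∃ w ∈ W, z = a • e + b • f + w)
    {g : V ≃ₗ[F] V} (hg : ∀ x y, B (g x) (g y) = B x y) (hgW : ∀ w ∈ W, g w = w) {x y : V} (hx : x ∈ W) (hy : y ∈ W)
    (hge : g e = e + x) (hgf : g f = f + y) (z : V) :
    ∃ w ∈ W, g z = z - B z y • e - B z x • f + w := by
  obtain ⟨a, b, w, hw, hz⟩ := hperp (g z - z) fun w hw => by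
    have h1 := hg z w
    rw [hgW w hw] at h1
    rw [map_sub, LinearMap.sub_apply, h1, sub_self]
  have hz' : g z = z + (a • e + b • f + w) := by rw [← hz]; abel
  have hex : B e x = 0 := by rw [hs]; exact hWe x hx
  have hfx : B f x = 0 := by rw [hs]; exact hWf x hx
  have hey : B e y = 0 := by rw [hs]; exact hWe y hy
  have hfy : B f y = 0 := by rw [hs]; exact hWf y hy
  have hfe : B f e = 1 := by rw [hs]; exact hef
  have e1 := hg z e
  rw [hz', hge] at e1
  simp only [map_add, LinearMap.add_apply, map_smul, LinearMap.smul_apply, smul_eq_mul, hee, hfe, hWe w hw, hex, hfx,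
    hWW w hw x hx] at e1
  have e2 := hg z f
  rw [hz', hgf] at e2
  simp only [map_add, LinearMap.add_apply, map_smul, LinearMap.smul_apply, smul_eq_mul, hff, hef, hWf w hw, hey, hfy,
    hWW w hw y hy] at e2
  have hb : b = -B z x := by linear_combination e1
  have ha : a = -B z y := by linear_combination e2
  refine ⟨w, hw, ?_⟩
  rw [hz', ha, hb]
  module

/-- **(iv)** -/
theorem no_group {B : V →ₗ[F] V →ₗ[F] F} (hs : ∀ x y, B x y = B y x) {W : Submodule F V} {e f : V}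
    (hee : B e e = 0) (hff : B f f = 0) (hef : B e f = 1) (hWe : ∀ w ∈ W, B w e = 0) (hWf : ∀ w ∈ W, B w f = 0)
    (hWW : ∀ w ∈ W, ∀ w' ∈ W, B w w' = 0)
    (hperp : ∀ z, (∀ w ∈ W, B z w = 0) → ∃ (a b : F), ∃ w ∈ W, z = a • e + b • f + w)
    (hnd : ∀ w ∈ W, w ≠ 0 → ∃ z, B z w ≠ 0)
    {M : Subgroup (V ≃ₗ[F] V)} (hM : ∀ g ∈ M, ∀ x y, B (g x) (g y) = B x y) (hMW : ∀ g ∈ M, ∀ w ∈ W, g w = w)
    (hMe : ∀ g ∈ M, g e - e ∈ W) (hMf : ∀ g ∈ M, g f - f ∈ W)
    (hinj : ∀ g ∈ M, g e = e → g f = f → g = 1) (hsurj : ∀ x ∈ W, ∀ y ∈ W, ∃ g ∈ M, g e = e + x ∧ g f = f + y)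
    {x y : V} (hx : x ∈ W) (hy : y ∈ W) (hy0 : y ≠ 0) (hxy : ∀ c : F, x ≠ c • y) : False := by
  obtain ⟨g, hg, hge, hgf⟩ := hsurj x hx 0 W.zero_mem
  obtain ⟨h, hh, hhe, hhf⟩ := hsurj 0 W.zero_mem y hy
  -- `M` is abelian
  have hcomm : g * h = h * g := by
    have key : ∀ a ∈ M, ∀ b ∈ M, ∀ v, a v - v ∈ W → b v - v ∈ W → (a * b) v = (b * a) v := by
      intro a ha b hb v hav hbv
      change a (b v) = b (a v)
      have h1 : b v = v + (b v - v) := by abel
      have h2 : a v = v + (a v - v) := by abel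
      have h3 : a (b v) = a v + (b v - v) := by
        conv_lhs => rw [h1, map_add, hMW a ha _ hbv]
      have h4 : b (a v) = b v + (a v - v) := by
        conv_lhs => rw [h2, map_add, hMW b hb _ hav]
      rw [h3, h4]
      abel
    have h1 : (h * g)⁻¹ * (g * h) = 1 := by
      apply hinj _ (M.mul_mem (M.inv_mem (M.mul_mem hh hg)) (M.mul_mem hg hh))
      · change (h * g)⁻¹ ((g * h) e) = e
        rw [key g hg h hh e (hMe g hg) (hMe h hh)]
        change ((h * g)⁻¹ * (h * g)) e = e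
        rw [inv_mul_cancel]
        rfl
      · change (h * g)⁻¹ ((g * h) f) = f
        rw [key g hg h hh f (hMf g hg) (hMf h hh)]
        change ((h * g)⁻¹ * (h * g)) f = f
        rw [inv_mul_cancel]
        rfl
    exact (inv_mul_eq_one.1 h1).symm
  obtain ⟨z, hz⟩ := hnd y hy hy0
  obtain ⟨w1, hw1, e1⟩ := apply_eq hs hee hff hef hWe hWf hWW hperp (hM g hg) (hMW g hg) hx W.zero_mem hge hgf z
  obtain ⟨w2, hw2, e2⟩ := apply_eq hs hee hff hef hWe hWf hWW hperp (hM h hh) (hMW h hh) W.zero_mem hy hhe hhf z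
  simp only [map_zero, zero_smul, sub_zero] at e1 e2
  have h1 : (g * h) z = z - B z x • f + w1 - B z y • (e + x) + w2 := by
    change g (h z) = _
    rw [e2, map_add, map_sub, map_smul, hge, hMW g hg _ hw2, e1]
  have h2 : (h * g) z = z - B z y • e + w2 - B z x • (f + y) + w1 := by
    change h (g z) = _
    rw [e1, map_add, map_sub, map_smul, hhf, hMW h hh _ hw1, e2]
  rw [hcomm, h2] at h1
  have h3 : B z y • x = B z x • y := by
    have h4 : B z y • x - B z x • y = (z - B z y • e + w2 - B z x • (f + y) + w1) - (z - B z x • f + w1 - B z y • (e + x) + w2) := by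
      module
    rw [h1, sub_self] at h4
    exact sub_eq_zero.1 h4
  apply hxy ((B z y)⁻¹ * B z x)
  rw [mul_smul, ← h3, smul_smul, inv_mul_cancel₀ hz, one_smul]

end Cfsg.Agent.H454.Rg
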